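import Groth.Agent.GammaVan.Flag
import Groth.Agent.KVbLib.PullHom

/-!
# The γ-filtration vanishes above the dimension
-/

set_option autoImplicit false
set_option linter.style.haveILetI false
set_option linter.unusedSectionVars false
set_option maxHeartbeats 1000000
set_option backward.isDefEq.respectTransparency false

universe v u

open CategoryTheory CategoryTheory.Limits AlgebraicGeometry LambdaRing TopologicalSpace Finset
open Groth.Agent.DCohLib Groth.Agent.PullbackMod

attribute [local instance] HasDerivedCategory.standard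

noncomputable section

namespace Groth.Agent.GammaVan

open PBundleLib

theorem lineIdeal_pow_eq_bot {X : Scheme.{u}} [IsNoetherian X] [ConnectedSpace ↥X] {L : X.Modules}
    (hL : CohB1.IsAmple L) {D : ℕ} (hd : topologicalKrullDim X ≤ (D : WithBot ℕ∞)) :
    lineIdeal X ^ (D + 1) = ⊥ := by
  suffices h : ∀ (n k : ℕ) (E : Fin k → X.Modules), (∀ i, FlatMod.IsFinLocFreeOfRank 1 (E i)) → n + k = D + 1 →
      ∀ x ∈ lineIdeal X ^ n, x * ∏ i, (KVb.toKR (KRR.cl X (E i)) - 1) = 0 from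
    (Submodule.eq_bot_iff _).2 fun x hx => by
      simpa using h (D + 1) 0 (fun i => i.elim0) (fun i => i.elim0) rfl x hx
  intro n
  induction n with
  | zero =>
    intro k E hE hk x _
    obtain rfl : k = D + 1 := by omega
    rw [prod_lines_eq_zero KVb.isModel hL hd E hE, mul_zero]
  | succ n ih =>
    intro k E hE hk x hx
    rw [pow_succ] at hx
    induction hx using Submodule.mul_induction_on' with
    | mem_mul_mem a ha b hb =>
      induction hb using Submodule.span_induction with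
      | mem v hv =>
        obtain ⟨M, hM, rfl⟩ := hv
        have := ih (k + 1) (Fin.cons M E) (Fin.cases hM hE) (by omega) a ha
        rw [Fin.prod_univ_succ] at this
        simp only [Fin.cons_zero, Fin.cons_succ] at this
        rw [← this]; ring
      | zero => simp
      | add b c _ _ hb hc => rw [mul_add, add_mul, hb, hc, add_zero]
      | smul r b _ hb => rw [smul_eq_mul, mul_left_comm, mul_assoc, hb, mul_zero]
    | add a _ b _ ha hb => rw [add_mul, ha, hb, add_zero]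

/-- Elements all whose `γ^s` lie in the `s`-th power of the line ideal. -/
def lineFil (X : Scheme.{u}) [ConnectedSpace ↥X] : AddSubgroup (KVb.KR X) where
  carrier := {z | ∀ s, gamma s z ∈ lineIdeal X ^ s}
  zero_mem' := fun s => by
    rcases s with - | s
    · simp
    · rw [LamR.gamma_zero_right (Nat.succ_ne_zero s)]; exact zero_mem _
  add_mem' := fun {u w} hu hw s => by
    rw [LamR.gamma_add]
    refine sum_mem fun i hi => ?_
    rw [mem_range] at hi
    have h := Ideal.mul_mem_mul (hu i) (hw (s - i))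
    rwa [← pow_add, show i + (s - i) = s by omega] at h
  neg_mem' := fun {u} hu s => by
    induction s using Nat.strong_induction_on with
    | _ s ih =>
      rcases s with - | s
      · simp
      have h := LamR.gamma_add (s + 1) u (-u)
      rw [add_neg_cancel, LamR.gamma_zero_right (Nat.succ_ne_zero s), sum_range_succ', LamR.gamma_zero, one_mul,
        Nat.sub_zero] at h
      rw [eq_neg_of_add_eq_zero_right h.symm]
      refine neg_mem (sum_mem fun i hi => ?_)
      rw [mem_range] at hi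
      have h' := Ideal.mul_mem_mul (hu (i + 1)) (ih (s + 1 - (i + 1)) (by omega))
      rwa [← pow_add, show i + 1 + (s + 1 - (i + 1)) = s + 1 by omega] at h'

theorem line_sub_one_mem {X : Scheme.{u}} [IsNoetherian X] [ConnectedSpace ↥X] {L : X.Modules}
    (hL : FlatMod.IsFinLocFreeOfRank 1 L) : KVb.toKR (KRR.cl X L) - 1 ∈ lineFil X := by
  intro s
  rcases s with - | - | s
  · simp
  · rw [zero_add, LamR.gamma_one, pow_one]
    exact Ideal.subset_span ⟨L, hL, rfl⟩
  · rw [LamR.gamma_thin_sub_one' (LamR.lam_one_pos (KVb.posStr X))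
      (LamR.lam_line (KVb.posStr X) (isLine_cl KVb.isModel hL))]
    exact zero_mem _

theorem map_lineFil {X Y : Scheme.{u}} [IsNoetherian X] [ConnectedSpace ↥X] [IsNoetherian Y] [ConnectedSpace ↥Y]
    {f : X ⟶ Y} {g : KVb.KR Y →+ KVb.KR X} (hg : KRR.IsPull f KVb.toKR KVb.toKR g) {z : KVb.KR Y}
    (hz : z ∈ lineFil Y) : g z ∈ lineFil X := fun s => by
  show gamma s (KVb.pullRing KVb.isModel KVb.isModel hg z) ∈ _
  rw [← LamR.map_gamma (KVb.isLambdaHom_pull KVb.isModel KVb.isModel hg)]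
  refine Ideal.pow_right_mono (map_lineIdeal hg) s ?_
  rw [← Ideal.map_pow]
  exact Ideal.mem_map_of_mem _ (hz s)

theorem exists_flag_list : ∀ (zs : List ℕ) (X : Scheme.{u}) [IsNoetherian X] [ConnectedSpace ↥X] (L : X.Modules),
    CohB1.IsAmple L → ∀ d : ℕ, topologicalKrullDim X ≤ (d : WithBot ℕ∞) → ∀ z : Fin zs.length → KVb.KR X,
    ∃ (X' : Scheme.{u}) (_ : IsNoetherian X') (_ : ConnectedSpace ↥X') (f : X' ⟶ X)
      (g : KVb.KR X →+ KVb.KR X') (μ : KVb.KR X') (N : ℕ) (L' : X'.Modules),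
      KRR.IsPull f KVb.toKR KVb.toKR g ∧ Function.Injective (fun a => g a * μ) ∧ CohB1.IsAmple L' ∧
      topologicalKrullDim X' ≤ ((d + N : ℕ) : WithBot ℕ∞) ∧ μ ∈ lineIdeal X' ^ N ∧
      ∀ i, (KVb.posStr X).aug (z i) = 0 → g (z i) ∈ lineFil X' := by
  intro zs
  induction zs with
  | nil =>
    intro X _ _ L hL d hd z
    exact ⟨X, inferInstance, inferInstance, 𝟙 X, AddMonoidHom.id _, 1, 0, L, fun F _ =>
      congrArg KVb.toKR (KVb.cl_iso ((Scheme.Modules.pullbackId X).app F).symm),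
      fun a b h => by simpa using h, hL, by simpa using hd, by simp, fun i => i.elim0⟩
  | cons a zs ih =>
    intro X _ _ L hL d hd z
    obtain ⟨u, v, hu, hv, huv⟩ := (KVb.posStr X).exists_sub (z ⟨0, Nat.succ_pos _⟩)
    obtain ⟨n, E, -, hE, rfl⟩ := ((KVb.isModel (X := X)).mem_pos_iff u).1 hu
    obtain ⟨n', F, -, hF, rfl⟩ := ((KVb.isModel (X := X)).mem_pos_iff v).1 hv
    obtain ⟨X₁, hn₁, hc₁, f₁, g₁, μ₁, N₁, L₁, hg₁, hi₁, hL₁, hd₁, hμ₁, ℓ, hℓ, hsE⟩ := exists_flag n X L hL d hd E hE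
    haveI := hn₁; haveI := hc₁
    obtain ⟨X₂, hn₂, hc₂, f₂, g₂, μ₂, N₂, L₂, hg₂, hi₂, hL₂, hd₂, hμ₂, ℓ', hℓ', hsF⟩ :=
      exists_flag n' X₁ L₁ hL₁ _ hd₁ _ (isFinLocFreeOfRank_pullback f₁ hF)
    haveI := hn₂; haveI := hc₂
    obtain ⟨X₃, hn₃, hc₃, f₃, g₃, μ₃, N₃, L₃, hg₃, hi₃, hL₃, hd₃, hμ₃, hz₃⟩ :=
      ih X₂ L₂ hL₂ _ hd₂ fun i => g₂ (g₁ (z i.succ))
    haveI := hn₃; haveI := hc₃
    let q₂ := KVb.pullRing KVb.isModel KVb.isModel hg₂
    let q₃ := KVb.pullRing KVb.isModel KVb.isModel hg₃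
    refine ⟨X₃, hn₃, hc₃, f₃ ≫ f₂ ≫ f₁, g₃.comp (g₂.comp g₁), q₃ (q₂ μ₁ * μ₂) * μ₃, N₁ + N₂ + N₃, L₃,
      isPull_comp hg₃ (isPull_comp hg₂ hg₁), ?_, hL₃, by simpa only [add_assoc] using hd₃, ?_, ?_⟩
    · intro a b hab
      refine hi₁ (hi₂ (hi₃ ?_))
      show q₃ (q₂ (g₁ a * μ₁) * μ₂) * μ₃ = q₃ (q₂ (g₁ b * μ₁) * μ₂) * μ₃
      simp only [map_mul]
      change q₃ (q₂ (g₁ a)) * (q₃ (q₂ μ₁ * μ₂) * μ₃) = q₃ (q₂ (g₁ b)) * (q₃ (q₂ μ₁ * μ₂) * μ₃) at hab
      rw [map_mul] at hab
      linear_combination hab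
    · rw [pow_add]
      refine Ideal.mul_mem_mul (Ideal.pow_right_mono (map_lineIdeal hg₃) _ ?_) hμ₃
      rw [← Ideal.map_pow]
      refine Ideal.mem_map_of_mem q₃ ?_
      rw [pow_add]
      refine Ideal.mul_mem_mul (Ideal.pow_right_mono (map_lineIdeal hg₂) _ ?_) hμ₂
      rw [← Ideal.map_pow]
      exact Ideal.mem_map_of_mem q₂ hμ₁
    · refine Fin.cases (fun h0 => ?_) (fun i hi => ?_)
      · have hnn : n = n' := by
          have h : (KVb.posStr X).aug (z ⟨0, Nat.succ_pos _⟩) = 0 := h0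
          rw [huv, map_sub, (KVb.isModel (X := X)).aug_cl n E hE, (KVb.isModel (X := X)).aug_cl n' F hF] at h
          omega
        show g₃ (g₂ (g₁ (z ⟨0, Nat.succ_pos _⟩))) ∈ _
        rw [huv, map_sub, hsE, hg₁ F (KVb.isFinLocFree_of_rank hF), map_sub, hsF, map_sum]
        refine map_lineFil hg₃ ?_
        rw [show ∀ (A : Fin n → KVb.KR X₂) (B : Fin n' → KVb.KR X₂),
          (∑ j, A j) - ∑ j, B j = (∑ j, (A j - 1)) - ∑ j, (B j - 1) from fun A B => by
            subst hnn; simp only [Finset.sum_sub_distrib, sub_sub_sub_cancel_right]]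
        refine sub_mem (sum_mem fun j _ => ?_) (sum_mem fun j _ => line_sub_one_mem (hℓ' j))
        rw [hg₂ _ (KVb.isFinLocFree_of_rank (hℓ j))]
        exact line_sub_one_mem (isFinLocFreeOfRank_pullback f₂ (hℓ j))
      · refine hz₃ i ?_
        exact (KVb.aug_pull KVb.isModel KVb.isModel hg₂ _).trans
          ((KVb.aug_pull KVb.isModel KVb.isModel hg₁ _).trans hi)

theorem gammaFiltration_eq_bot_KR {X : Scheme.{u}} [IsNoetherian X] [ConnectedSpace ↥X] {L : X.Modules}
    (hL : CohB1.IsAmple L) {d : ℕ} (hd : topologicalKrullDim X ≤ (d : WithBot ℕ∞)) :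
    gammaFiltration (KVb.posStr X) (d + 1) = ⊥ := by
  rw [gammaFiltration, if_neg (Nat.succ_ne_zero d), eq_bot_iff, AddSubgroup.closure_le]
  rintro _ ⟨l, h0, hl, rfl⟩
  obtain ⟨X', hn, hc, f, g, μ, N, L', hg, hi, hL', hd', hμ, hz⟩ :=
    exists_flag_list (l.map Prod.fst) X L hL d hd fun i => (l[(i : ℕ)]'(by simpa using i.2)).2
  haveI := hn; haveI := hc
  let q := KVb.pullRing KVb.isModel KVb.isModel hg
  have hmem : ∀ p ∈ l, g p.2 ∈ lineFil X' := fun p hp => by
    obtain ⟨i, hi', rfl⟩ := List.getElem_of_mem hp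
    exact hz ⟨i, by simpa using hi'⟩ (h0 _ hp)
  have hprod : q (l.map fun p => gamma p.1 p.2).prod ∈ lineIdeal X' ^ (l.map Prod.fst).sum := by
    clear h0 hl hz
    induction l with
    | nil => simp
    | cons p l ih =>
      simp only [List.map_cons, List.sum_cons, List.prod_cons, map_mul, pow_add]
      refine Ideal.mul_mem_mul ?_ (ih fun p' hp' => hmem p' (List.mem_cons_of_mem _ hp'))
      rw [LamR.map_gamma (KVb.isLambdaHom_pull KVb.isModel KVb.isModel hg)]
      exact hmem p List.mem_cons_self p.1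
  show (l.map fun p => gamma p.1 p.2).prod = 0
  refine hi ?_
  show q _ * μ = q 0 * μ
  rw [map_zero, zero_mul, ← Ideal.mem_bot, ← lineIdeal_pow_eq_bot hL' hd']
  have h := Ideal.mul_mem_mul (Ideal.pow_le_pow_right hl hprod) hμ
  rwa [← pow_add, show d + 1 + N = d + N + 1 by omega] at h

/-- `F^{d+1} K(X) = 0`. -/
theorem gammaFiltration_eq_bot {X : Scheme.{u}} [IsNoetherian X] [ConnectedSpace ↥X] {L : X.Modules}
    (hL : CohB1.IsAmple L) {d : ℕ} (hd : topologicalKrullDim X ≤ (d : WithBot ℕ∞))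
    {K : Type v} [CommRing K] [LambdaOps K] {P : PosStructure K} {φ : SGA6.Kvb X →+ K}
    (hK : KRR.IsModel X K P φ) : gammaFiltration P (d + 1) = ⊥ := by
  obtain ⟨e, -, haug, hlam⟩ := KVb.exists_modelIso hK (KVb.isModel (X := X))
  refine (AddSubgroup.eq_bot_iff_forall _).2 fun y hy => ?_
  have h := KVb.map_gammaFiltration (e : K →+* KVb.KR X) haug hlam hy
  rw [gammaFiltration_eq_bot_KR hL hd, AddSubgroup.mem_bot] at h
  exact e.injective (h.trans (map_zero _).symm)

end Groth.Agent.GammaVan
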